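import Mathlib
import Groth.Prelude.Def_FlatCA

/-! helper7: support of a base change of a finite module, and a finitely generated ideal inside
the annihilator cutting out the support of the fibre module. -/

set_option linter.style.haveILetI false
set_option linter.unusedVariables false
set_option linter.unusedSectionVars false
set_option linter.overlappingInstances false

open TensorProduct

namespace Groth.Agent.Helper7.FibSupp

universe u

section Gen

theorem nontrivial_tensor_of_mem_support {B : Type u} [CommRing B] (N : Type u) [AddCommGroup N]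
    [Module B N] [Module.Finite B N] (K : Type u) [Field K] [Algebra B K]
    (y : Ideal B) [hy : y.IsPrime] (hker : RingHom.ker (algebraMap B K) = y)
    (h : (⟨y, hy⟩ : PrimeSpectrum B) ∈ Module.support B N) :
    Nontrivial (K ⊗[B] N) := by
  have hf₂ : y.primeCompl ≤ (IsUnit.submonoid K).comap (algebraMap B K) := by
    intro b hb
    rw [Submonoid.mem_comap, IsUnit.mem_submonoid_iff, isUnit_iff_ne_zero]
    intro h0
    apply hb
    rw [← hker]
    exact h0
  let φ : y.ResidueField →+* K :=
    Ideal.ResidueField.lift y (algebraMap B K) (le_of_eq hker.symm) hf₂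
  letI : Algebra y.ResidueField K := φ.toAlgebra
  haveI : IsScalarTower B y.ResidueField K := IsScalarTower.of_algebraMap_eq (fun b =>
    (Ideal.ResidueField.lift_algebraMap y (algebraMap B K) (le_of_eq hker.symm) hf₂ b).symm)
  haveI : Nontrivial (y.ResidueField ⊗[B] N) :=
    (Module.mem_support_iff_nontrivial_residueField_tensorProduct
      (⟨y, hy⟩ : PrimeSpectrum B)).1 h
  let e := AlgebraTensorModule.cancelBaseChange B y.ResidueField K K N
  haveI : Nontrivial (K ⊗[y.ResidueField] (y.ResidueField ⊗[B] N)) := inferInstance
  exact e.symm.toEquiv.nontrivial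

theorem mem_support_baseChange_iff {B F : Type u} [CommRing B] [CommRing F] [Algebra B F]
    (N : Type u) [AddCommGroup N] [Module B N] [Module.Finite B N] (x : PrimeSpectrum F) :
    x ∈ Module.support F (F ⊗[B] N) ↔
      Module.annihilator B N ≤ x.asIdeal.comap (algebraMap B F) := by
  constructor
  · intro hx b hb
    rw [Ideal.mem_comap]
    apply Module.annihilator_le_of_mem_support hx
    rw [Module.mem_annihilator]
    intro z
    induction z using TensorProduct.induction_on with
    | zero => exact smul_zero _
    | tmul f n =>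
      rw [TensorProduct.smul_tmul', algebraMap_smul, TensorProduct.smul_tmul,
        Module.mem_annihilator.1 hb n, tmul_zero]
    | add a c ha hc => rw [smul_add, ha, hc, add_zero]
  · intro h
    haveI hyp : (x.asIdeal.comap (algebraMap B F)).IsPrime := Ideal.comap_isPrime _ _
    have hy : (⟨x.asIdeal.comap (algebraMap B F), hyp⟩ : PrimeSpectrum B) ∈
        Module.support B N := by
      rw [Module.mem_support_iff_of_finite]
      exact h
    have hker : RingHom.ker (algebraMap B x.asIdeal.ResidueField) =
        x.asIdeal.comap (algebraMap B F) := by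
      rw [IsScalarTower.algebraMap_eq B F x.asIdeal.ResidueField, ← RingHom.comap_ker,
        Ideal.ker_algebraMap_residueField]
    haveI := nontrivial_tensor_of_mem_support N x.asIdeal.ResidueField _ hker hy
    let e := AlgebraTensorModule.cancelBaseChange B F x.asIdeal.ResidueField
      x.asIdeal.ResidueField N
    haveI : Nontrivial (x.asIdeal.ResidueField ⊗[F] (F ⊗[B] N)) := e.toEquiv.nontrivial
    exact (Module.mem_support_iff_nontrivial_residueField_tensorProduct x).2 inferInstance

theorem exists_fg_le_map_eq {B F : Type u} [CommRing B] [CommRing F] [IsNoetherianRing F]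
    (f : B →+* F) (I : Ideal B) : ∃ J : Ideal B, J.FG ∧ J ≤ I ∧ J.map f = I.map f := by
  classical
  have hfg : (I.map f).FG := IsNoetherian.noetherian _
  have h1 : (Submodule.span F (f '' (I : Set B))).FG := hfg
  rw [Submodule.fg_span_iff_fg_span_finset_subset] at h1
  obtain ⟨s', hs', hspan⟩ := h1
  obtain ⟨t, ht, rfl⟩ := Finset.subset_set_image_iff.1 hs'
  refine ⟨Ideal.span (t : Set B), ⟨t, rfl⟩, Ideal.span_le.2 ht, ?_⟩
  rw [Ideal.map_span]
  show Ideal.span (f '' (t : Set B)) = Submodule.span F (f '' (I : Set B))
  rw [hspan, Finset.coe_image]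

end Gen

section Main

attribute [local instance] Algebra.TensorProduct.rightAlgebra

theorem main {A B : Type u} [CommRing A] [CommRing B] [Algebra A B] [Algebra.FiniteType A B]
    (N : Type u) [AddCommGroup N] [Module B N] [Module A N] [IsScalarTower A B N]
    [Module.Finite B N] (p : Ideal A) [p.IsPrime] :
    ∃ J : Ideal B, J.FG ∧ J ≤ Module.annihilator B N ∧
      ∀ x : PrimeSpectrum (p.Fiber B), FlatCA.fiberIdeal p J ≤ x.asIdeal ↔
        x ∈ Module.support (p.Fiber B) (FlatCA.fiberMod p B N) := by
  haveI : Algebra.FiniteType p.ResidueField (p.Fiber B) := inferInstance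
  haveI : IsNoetherianRing (p.Fiber B) := Algebra.FiniteType.isNoetherianRing p.ResidueField _
  obtain ⟨J, hJfg, hJle, hJmap⟩ := exists_fg_le_map_eq (algebraMap B (p.Fiber B))
    (Module.annihilator B N)
  refine ⟨J, hJfg, hJle, fun x => ?_⟩
  have h1 : FlatCA.fiberIdeal p J = J.map (algebraMap B (p.Fiber B)) := rfl
  have h2 : x ∈ Module.support (p.Fiber B) (FlatCA.fiberMod p B N) ↔
      x ∈ Module.support (p.Fiber B) ((p.Fiber B) ⊗[B] N) := Iff.rfl
  rw [h1, h2, mem_support_baseChange_iff, hJmap, Ideal.map_le_iff_le_comap]

end Main

end Groth.Agent.Helper7.FibSupp
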